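import Groth.Agent.AzumayaLib.Etale
import Groth.Agent.CSALib.SepCenter

/-!
# Étale subalgebras of absolutely semisimple algebras
-/

set_option autoImplicit false
set_option backward.isDefEq.respectTransparency false
set_option backward.isDefEq.respectTransparency.types false
set_option maxHeartbeats 1000000

universe u v w

open scoped TensorProduct Polynomial
open Polynomial

namespace EtSubLib

variable {k : Type u} [Field k]

/-- A central nilpotent element of a semisimple ring vanishes. -/
theorem eq_zero_of_central_nilpotent {B : Type v} [Ring B] [IsSemisimpleRing B] {x : B}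
    (hc : ∀ y, Commute y x) (hx : IsNilpotent x) : x = 0 := by
  obtain ⟨Q, hQ⟩ := exists_isCompl (Submodule.span B ({x} : Set B))
  have h1 : (1 : B) ∈ Submodule.span B ({x} : Set B) ⊔ Q := by rw [hQ.sup_eq_top]; trivial
  obtain ⟨a, ha, b, hb, hab⟩ := Submodule.mem_sup.1 h1
  obtain ⟨r, rfl⟩ := Submodule.mem_span_singleton.1 ha
  have hn : IsNilpotent (r * x) := (hc r).isNilpotent_mul_left hx
  obtain ⟨v, hv⟩ := hn.isUnit_one_sub
  have hb' : b = 1 - r * x := eq_sub_of_add_eq' hab
  have htop : Q = ⊤ := by
    refine eq_top_iff.2 fun y _ => ?_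
    have := Q.smul_mem (y * ↑v⁻¹) hb
    rw [hb', ← hv, smul_eq_mul, mul_assoc, Units.inv_mul, mul_one] at this
    exact this
  have := hQ.disjoint
  rw [htop, disjoint_top] at this
  exact (Submodule.span_singleton_eq_bot).1 this

/-- Separability from the absence of nilpotent values after extension to an algebraic closure. -/
theorem separable_of_nilfree {T : Type v} [Ring T] [Algebra k T] [FiniteDimensional k T] (y : T)
    (h : ∀ p : (AlgebraicClosure k)[X],
      IsNilpotent (aeval ((1 : AlgebraicClosure k) ⊗ₜ[k] y) p) →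
        aeval ((1 : AlgebraicClosure k) ⊗ₜ[k] y) p = 0) : IsSeparable k y := by
  classical
  let Ω := AlgebraicClosure k
  let z : Ω ⊗[k] T := (1 : Ω) ⊗ₜ[k] y
  set r := (minpoly k y).natDegree
  have hz0 : aeval z ((minpoly k y).map (algebraMap k Ω)) = 0 := by
    rw [aeval_map_algebraMap]
    show aeval (Algebra.TensorProduct.includeRight (R := k) (A := Ω) y) (minpoly k y) = 0
    rw [aeval_algHom_apply, minpoly.aeval, map_zero]
  have hzli : LinearIndependent Ω (fun i : Fin r => z ^ (i : ℕ)) := by
    have hinj : Function.Injective (Fintype.linearCombination k (fun i : Fin r => y ^ (i : ℕ))) :=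
      (linearIndependent_pow y).fintypeLinearCombination_injective
    have h' : Function.Injective ((Fintype.linearCombination k (fun i : Fin r => y ^ (i : ℕ))).baseChange Ω) :=
      Module.Flat.lTensor_preserves_injective_linearMap _ hinj
    have hb : (fun i : Fin r => z ^ (i : ℕ)) =
        ((Fintype.linearCombination k (fun i : Fin r => y ^ (i : ℕ))).baseChange Ω) ∘
          ((Pi.basisFun k (Fin r)).baseChange Ω) := by
      funext i
      simp [z, Fintype.linearCombination_apply_single]
    rw [hb]
    exact ((Pi.basisFun k (Fin r)).baseChange Ω).linearIndependent.map' _ (LinearMap.ker_eq_bot.2 h')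
  have hmin : minpoly Ω z = (minpoly k y).map (algebraMap k Ω) := by
    refine Polynomial.eq_of_monic_of_dvd_of_natDegree_le (minpoly.monic (IsIntegral.of_finite Ω z))
      ((minpoly.monic (IsIntegral.of_finite k y)).map _) (minpoly.dvd Ω z hz0) ?_ |>.symm
    rw [natDegree_map]
    exact (AzumayaLib.Reg.linearIndependent_pow_iff z).1 hzli
  show (minpoly k y).Separable
  rw [← separable_map (algebraMap k Ω), ← hmin, PerfectField.separable_iff_squarefree]
  intro q ⟨s, hs⟩
  have hne : minpoly Ω z ≠ 0 := minpoly.ne_zero (IsIntegral.of_finite Ω z)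
  have hsq : IsNilpotent (aeval z (q * s)) := ⟨2, by
    rw [← map_pow, show (q * s) ^ 2 = minpoly Ω z * s by rw [hs]; ring, map_mul, minpoly.aeval, zero_mul]⟩
  obtain ⟨t, ht⟩ := minpoly.dvd Ω z (h _ hsq)
  have hqs : q * s ≠ 0 := fun hh => hne (by rw [hs, mul_assoc, hh, mul_zero])
  have : q * s = (q * s) * (q * t) := by
    conv_lhs => rw [ht, hs]
    ring
  exact IsUnit.of_mul_eq_one _ ((mul_right_eq_self₀.1 this.symm).resolve_right hqs)

/-- Elements of unramified algebras are separable. -/
theorem separable_of_unramified {T : Type v} [CommRing T] [Algebra k T] [FiniteDimensional k T]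
    [Algebra.FormallyUnramified k T] (y : T) : IsSeparable k y := by
  have := Algebra.FormallyUnramified.isReduced_of_field (AlgebraicClosure k) (AlgebraicClosure k ⊗[k] T)
  exact separable_of_nilfree y fun p hp => hp.eq_zero

/-- The algebra generated by a separable element is unramified. -/
theorem unramified_adjoin {B : Type v} [Ring B] [Algebra k B] [FiniteDimensional k B] (x : B)
    (hs : (minpoly k x).Separable) :
    Algebra.FormallyUnramified k (Algebra.adjoin k ({x} : Set B)) := by
  have : Algebra.Etale k (AdjoinRoot (minpoly k x)) :=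
    AzumayaLib.Et.etale_adjoinRoot (minpoly.monic (IsIntegral.of_finite k x)) hs
  let x' : Algebra.adjoin k ({x} : Set B) := ⟨x, Algebra.self_mem_adjoin_singleton k x⟩
  let f : AdjoinRoot (minpoly k x) →ₐ[k] Algebra.adjoin k ({x} : Set B) :=
    AdjoinRoot.liftAlgHom _ (Algebra.ofId k _) x' (by
      apply Subtype.ext
      show ((Polynomial.eval₂ (algebraMap k _) x' (minpoly k x) : Algebra.adjoin k ({x} : Set B)) : B) = 0
      rw [← aeval_def, ← Subalgebra.coe_val, ← aeval_algHom_apply]; exact minpoly.aeval k x)
  refine Algebra.FormallyUnramified.of_surjective f ?_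
  rintro ⟨z, hz⟩
  rw [Algebra.adjoin_singleton_eq_range_aeval] at hz
  obtain ⟨p, hp⟩ := hz
  refine ⟨AdjoinRoot.mk _ p, Subtype.ext ?_⟩
  show ((f (AdjoinRoot.mk _ p) : Algebra.adjoin k ({x} : Set B)) : B) = z
  rw [AdjoinRoot.liftAlgHom_mk]
  show ((Polynomial.eval₂ (algebraMap k _) x' p : Algebra.adjoin k ({x} : Set B)) : B) = z
  rw [← aeval_def, ← Subalgebra.coe_val, ← aeval_algHom_apply]
  exact hp

theorem isSeparable_adjoin {B : Type v} [Ring B] [Algebra k B] [FiniteDimensional k B] (x : B)
    (hs : (minpoly k x).Separable) : Algebra.IsSeparable k (Algebra.adjoin k ({x} : Set B)) := by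
  letI : CommRing (Algebra.adjoin k ({x} : Set B)) := Algebra.adjoinCommRingOfComm k fun a ha b hb => by
    rw [Set.mem_singleton_iff] at ha hb; rw [ha, hb]
  have := unramified_adjoin x hs
  exact ⟨fun y => separable_of_unramified y⟩

/-- A separable polynomial relation componentwise gives separability. -/
theorem separable_of_components {T : Type v} [Ring T] [Algebra k T] [FiniteDimensional k T] {ι : Type w} [Fintype ι]
    {B : ι → Type v} [∀ i, Ring (B i)] [∀ i, Algebra k (B i)] (φ : ∀ i, T →ₐ[k] B i)
    (hφ : Function.Injective (AlgHom.pi φ)) (y : T) (h : ∀ i, IsSeparable k (φ i y)) : IsSeparable k y := by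
  classical
  let S : Finset k[X] :=
    Finset.univ.biUnion fun i => (UniqueFactorizationMonoid.normalizedFactors (minpoly k (φ i y))).toFinset
  have hS : ∀ q ∈ S, Irreducible q ∧ q.Monic ∧ q.Separable := fun q hq => by
    obtain ⟨i, -, hi⟩ := Finset.mem_biUnion.1 hq
    rw [Multiset.mem_toFinset] at hi
    have hirr := UniqueFactorizationMonoid.irreducible_of_normalized_factor q hi
    refine ⟨hirr, ?_, Polynomial.Separable.of_dvd (h i) (UniqueFactorizationMonoid.dvd_of_mem_normalizedFactors hi)⟩
    rw [← UniqueFactorizationMonoid.normalize_normalized_factor q hi]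
    exact Polynomial.monic_normalize hirr.ne_zero
  have hP : (∏ q ∈ S, q).Separable := by
    refine separable_prod' (fun q hq q' hq' hne => ?_) fun q hq => (hS q hq).2.2
    refine (hS q hq).1.coprime_iff_not_dvd.2 fun hd => hne ?_
    exact eq_of_monic_of_associated (hS q hq).2.1 (hS q' hq').2.1
      ((hS q hq).1.associated_of_dvd (hS q' hq').1 hd)
  refine Polynomial.Separable.of_dvd hP (minpoly.dvd k y (hφ (funext fun i => ?_)))
  show φ i (aeval y (∏ q ∈ S, q)) = AlgHom.pi φ 0 i
  rw [map_zero, Pi.zero_apply, ← aeval_algHom_apply]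
  have hne : minpoly k (φ i y) ≠ 0 := (h i).ne_zero
  have hnd := (UniqueFactorizationMonoid.squarefree_iff_nodup_normalizedFactors hne).1 (Polynomial.Separable.squarefree (h i))
  have hdvd : minpoly k (φ i y) ∣ ∏ q ∈ S, q := by
    rw [← (UniqueFactorizationMonoid.prod_normalizedFactors hne).dvd_iff_dvd_left]
    rw [Finset.prod_eq_multiset_prod, Multiset.map_id']
    refine Multiset.prod_dvd_prod_of_le ((Multiset.le_iff_subset hnd).2 fun q hq => ?_)
    exact Finset.mem_biUnion.2 ⟨i, Finset.mem_univ _, Multiset.mem_toFinset.2 hq⟩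
  obtain ⟨t, ht⟩ := hdvd
  rw [ht, map_mul, minpoly.aeval, zero_mul]

/-- A subring onto which a semisimple ring retracts as bimodules is semisimple. -/
theorem semisimple_of_proj {B : Type v} [Ring B] [IsSemisimpleRing B] {C : Type w} [Ring C] (j : C →+* B)
    (P : B →+ C) (hid : ∀ c, P (j c) = c) (hr : ∀ x c, P (x * j c) = P x * c)
    (hlin : ∀ (c : C) (x : B), P (j c * x) = c * P x) : IsSemisimpleRing C := by
  refine (isSemisimpleModule_iff _ _).2 ⟨fun N => ?_⟩
  obtain ⟨M', hM⟩ := exists_isCompl (Submodule.span B (j '' (N : Set C)))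
  have h1 : (1 : B) ∈ Submodule.span B (j '' (N : Set C)) ⊔ M' := by rw [hM.sup_eq_top]; trivial
  obtain ⟨e, he, e', he', hee⟩ := Submodule.mem_sup.1 h1
  have hmem : ∀ m ∈ Submodule.span B (j '' (N : Set C)), ∀ b : B, P (b * m) ∈ N := by
    intro m hm
    induction hm using Submodule.span_induction with
    | mem m hm => obtain ⟨n, hn, rfl⟩ := hm; intro b; rw [hr]; exact N.smul_mem _ hn
    | zero => intro b; rw [mul_zero, map_zero]; exact N.zero_mem
    | add x y _ _ hx hy => intro b; rw [mul_add, map_add]; exact N.add_mem (hx b) (hy b)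
    | smul a x _ hx => intro b; rw [smul_eq_mul, ← mul_assoc]; exact hx _
  have hme : ∀ m ∈ Submodule.span B (j '' (N : Set C)), m * e = m := by
    intro m hm
    have hsum : m * e + m * e' = m := by rw [← mul_add, hee, mul_one]
    have h2 : m * e' = 0 := Submodule.disjoint_def.1 hM.disjoint (m * e')
      (by rw [eq_sub_of_add_eq' hsum]; exact sub_mem hm (Submodule.smul_mem _ m he))
      (M'.smul_mem m he')
    rw [h2, add_zero] at hsum
    exact hsum
  have hl : ∀ (c : C), c ∈ N → P (j c * e) = c := fun c hc => by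
    rw [hme _ (Submodule.subset_span ⟨c, hc, rfl⟩), hid]
  let f : C := P e
  have hf : f ∈ N := by simpa [f] using hmem e he 1
  let p : C →ₗ[C] N :=
    { toFun := fun x => ⟨x * f, N.smul_mem x hf⟩
      map_add' := fun x y => Subtype.ext (add_mul x y f)
      map_smul' := fun r x => Subtype.ext (mul_assoc r x f) }
  exact ⟨LinearMap.ker p, LinearMap.isCompl_of_proj (f := p) fun x => Subtype.ext (by
    change (x : C) * f = x
    rw [← hlin, hl _ x.2])⟩

end EtSubLib
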