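import Groth.Agent.EtSubLib.Main

/-!
# Maximal étale subalgebras are their own centralisers
-/

set_option autoImplicit false
set_option backward.isDefEq.respectTransparency false
set_option backward.isDefEq.respectTransparency.types false
set_option maxHeartbeats 1000000
set_option synthInstance.maxHeartbeats 400000

universe u v w

open scoped TensorProduct Polynomial
open Polynomial

namespace EtSubLib

variable {k : Type u} [Field k]

/-- A commutative separable finite algebra is unramified. -/
theorem unramified_of_separable {L : Type v} [CommRing L] [Algebra k L] [FiniteDimensional k L]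
    [Algebra.IsSeparable k L] : Algebra.FormallyUnramified k L := by
  classical
  have : IsArtinianRing L := isArtinian_of_tower k inferInstance
  have : IsReduced L := by
    constructor
    intro y ⟨n, hn⟩
    have hs : (minpoly k y).Separable := Algebra.IsSeparable.isSeparable k y
    have h1 : minpoly k y ∣ (X : k[X]) ^ n := minpoly.dvd k y (by rw [map_pow, aeval_X, hn])
    have h2 : minpoly k y ∣ (X : k[X]) := by
      by_cases hn0 : n = 0
      · subst hn0; rw [pow_zero] at h1; exact h1.trans (one_dvd _)
      · exact (Polynomial.Separable.squarefree hs).isRadical n _ h1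
    obtain ⟨c, hc⟩ := h2
    simpa using congrArg (aeval y) hc
  have : Fintype (MaximalSpectrum L) := Fintype.ofFinite _
  have hI : ∀ I : MaximalSpectrum L, Algebra.FormallyUnramified k (L ⧸ I.asIdeal) := fun I => by
    letI := Ideal.Quotient.field I.asIdeal
    have : Algebra.IsSeparable k (L ⧸ I.asIdeal) := ⟨fun y => by
      obtain ⟨z, rfl⟩ := Ideal.Quotient.mk_surjective y
      refine Polynomial.Separable.of_dvd (Algebra.IsSeparable.isSeparable k z) (minpoly.dvd k _ ?_)
      show aeval (Ideal.Quotient.mkₐ k I.asIdeal z) (minpoly k z) = 0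
      rw [aeval_algHom_apply, minpoly.aeval, map_zero]⟩
    exact Algebra.FormallyUnramified.of_isSeparable k _
  have := (Algebra.FormallyUnramified.pi_iff _).2 hI
  exact Algebra.FormallyUnramified.of_equiv ((IsArtinianRing.equivPi L).restrictScalars k).symm

/-- The centre of an absolutely semisimple algebra is separable. -/
theorem isSeparable_center {C : Type v} [Ring C] [Algebra k C] [FiniteDimensional k C]
    [IsSemisimpleRing (AlgebraicClosure k ⊗[k] C)] : Algebra.IsSeparable k (Subalgebra.center k C) := by
  refine ⟨fun y => ?_⟩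
  have h : IsSeparable k (y : C) := separable_of_nilfree (y : C) fun p hp => by
    refine eq_zero_of_central_nilpotent (fun z => ?_) hp
    clear hp
    have hy : ∀ z : AlgebraicClosure k ⊗[k] C, Commute z ((1 : AlgebraicClosure k) ⊗ₜ[k] (y : C)) := fun z => by
      induction z with
      | zero => exact Commute.zero_left _
      | add a b ha hb => exact ha.add_left hb
      | tmul c a =>
        show (c ⊗ₜ[k] a) * ((1 : AlgebraicClosure k) ⊗ₜ[k] (y : C)) = ((1 : AlgebraicClosure k) ⊗ₜ[k] (y : C)) * (c ⊗ₜ[k] a)
        rw [Algebra.TensorProduct.tmul_mul_tmul, Algebra.TensorProduct.tmul_mul_tmul, one_mul, mul_one,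
          Subalgebra.mem_center_iff.1 y.2 a]
    induction p using Polynomial.induction_on' with
    | add p q hp hq => rw [map_add]; exact hp.add_right hq
    | monomial n c =>
      rw [aeval_monomial]
      exact (Algebra.commute_algebraMap_right c z).mul_right ((hy z).pow_right n)
  unfold IsSeparable at h ⊢
  rw [← minpoly.algHom_eq (Subalgebra.center k C).val Subtype.val_injective y]
  exact h

/-- The centralizer of a separable commutative subalgebra of an absolutely semisimple algebra is
absolutely semisimple. -/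
theorem semisimple_centralizer {A : Type v} [Ring A] [Algebra k A] [FiniteDimensional k A]
    (hss : IsSemisimpleRing (AlgebraicClosure k ⊗[k] A)) (L : Subalgebra k A)
    (hcomm : ∀ x ∈ L, ∀ y ∈ L, x * y = y * x) [Algebra.IsSeparable k L] :
    IsSemisimpleRing (AlgebraicClosure k ⊗[k] Subalgebra.centralizer k (L : Set A)) ∧
      IsSemisimpleRing (Subalgebra.centralizer k (L : Set A)) := by
  classical
  let Ω := AlgebraicClosure k
  let C := Subalgebra.centralizer k (L : Set A)
  letI : CommRing L := { (inferInstance : Ring L) with mul_comm := fun x y => Subtype.ext (hcomm _ x.2 _ y.2) }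
  have : FiniteDimensional k L := FiniteDimensional.of_injective L.val.toLinearMap Subtype.val_injective
  have : Algebra.FormallyUnramified k L := unramified_of_separable
  let T : A → L ⊗[k] L →ₗ[k] A := fun x => TensorProduct.lift
    (LinearMap.mk₂ k (fun a b : L => (a : A) * x * (b : A))
      (fun a a' b => by simp [add_mul])
      (fun c a b => by simp [smul_mul_assoc])
      (fun a b b' => by simp [mul_add])
      (fun c a b => by simp [mul_smul_comm]))
  have hT : ∀ x (a b : L), T x (a ⊗ₜ b) = (a : A) * x * (b : A) := fun x a b => rfl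
  set e := Algebra.FormallyUnramified.elem k L
  let P₀ : A →ₗ[k] A :=
    { toFun := fun x => T x e
      map_add' := fun x y => by
        induction e with
        | zero => simp
        | add p q hp hq => simp only [map_add, hp, hq]; abel
        | tmul a b => simp [hT, mul_add, add_mul]
      map_smul' := fun c x => by
        induction e with
        | zero => simp
        | add p q hp hq => simp only [map_add, RingHom.id_apply] at hp hq ⊢; rw [hp, hq, smul_add]
        | tmul a b => simp [hT, smul_mul_assoc, mul_smul_comm] }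
  have hC : ∀ x, P₀ x ∈ C := by
    intro x
    rw [Subalgebra.mem_centralizer_iff]
    intro l hl
    show l * T x e = T x e * l
    have h1 : ∀ z : L ⊗[k] L, l * T x z = T x (((⟨l, hl⟩ : L) ⊗ₜ 1) * z) ∧
        T x z * l = T x (((1 : L) ⊗ₜ (⟨l, hl⟩ : L)) * z) := fun z => by
      induction z with
      | zero => simp
      | add p q hp hq => simp only [map_add, mul_add, add_mul, hp.1, hp.2, hq.1, hq.2, and_self]
      | tmul a b =>
        simp only [Algebra.TensorProduct.tmul_mul_tmul, one_mul, hT, MulMemClass.coe_mul]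
        refine ⟨by simp only [mul_assoc], ?_⟩
        rw [hcomm l hl b b.2]
        simp only [mul_assoc]
    rw [(h1 e).1, (h1 e).2, Algebra.FormallyUnramified.one_tmul_mul_elem]
  have hfix : ∀ c ∈ C, P₀ c = c := by
    intro c hc
    have h1 : ∀ z : L ⊗[k] L, T c z = c * ((Algebra.TensorProduct.lmul' k z : L) : A) := fun z => by
      induction z with
      | zero => simp
      | add p q hp hq => simp only [map_add, hp, hq, Subalgebra.coe_add, mul_add]
      | tmul a b =>
        rw [hT, Algebra.TensorProduct.lmul'_apply_tmul, MulMemClass.coe_mul, ← mul_assoc]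
        rw [Subalgebra.mem_centralizer_iff] at hc
        rw [hc a a.2]
    show T c e = c
    rw [h1, Algebra.FormallyUnramified.lmul_elem]; simp
  have hrl : ∀ x, ∀ c ∈ C, P₀ (x * c) = P₀ x * c ∧ P₀ (c * x) = c * P₀ x := by
    intro x c hc
    rw [Subalgebra.mem_centralizer_iff] at hc
    show T (x * c) e = T x e * c ∧ T (c * x) e = c * T x e
    induction e with
    | zero => simp
    | add p q hp hq => simp only [map_add, hp.1, hp.2, hq.1, hq.2, mul_add, add_mul, and_self]
    | tmul a b =>
      simp only [hT]
      refine ⟨?_, ?_⟩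
      · simp only [mul_assoc]; rw [← hc b b.2]
      · simp only [← mul_assoc]; rw [hc a a.2]
  let P : A →ₗ[k] C := P₀.codRestrict C.toSubmodule hC
  let jΩ : Ω ⊗[k] C →ₐ[k] Ω ⊗[k] A := Algebra.TensorProduct.map (AlgHom.id k Ω) C.val
  let PΩ : Ω ⊗[k] A →ₗ[k] Ω ⊗[k] C := P.lTensor Ω
  have hj : ∀ (a : Ω) (c : C), jΩ (a ⊗ₜ c) = a ⊗ₜ (c : A) := fun a c => by simp [jΩ]
  have hP : ∀ (a : Ω) (x : A), PΩ (a ⊗ₜ x) = a ⊗ₜ P x := fun a x => rfl
  have hid : ∀ c, PΩ (jΩ c) = c := fun c => by
    induction c with
    | zero => simp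
    | add p q hp hq => rw [map_add, map_add, hp, hq]
    | tmul a c => rw [hj, hP, show P (c : A) = c from Subtype.ext (hfix _ c.2)]
  have hbi : ∀ x c, PΩ (x * jΩ c) = PΩ x * c ∧ PΩ (jΩ c * x) = c * PΩ x := fun x c => by
    induction x with
    | zero => simp
    | add p q hp hq => simp only [map_add, add_mul, mul_add, hp.1, hp.2, hq.1, hq.2, and_self]
    | tmul b x =>
      induction c with
      | zero => simp
      | add p q hp hq => simp only [map_add, add_mul, mul_add, hp.1, hp.2, hq.1, hq.2, and_self]
      | tmul a c =>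
        simp only [hj, hP, Algebra.TensorProduct.tmul_mul_tmul]
        exact ⟨congrArg _ (Subtype.ext (hrl x c c.2).1), congrArg _ (Subtype.ext (hrl x c c.2).2)⟩
  refine ⟨semisimple_of_proj jΩ.toRingHom PΩ.toAddMonoidHom hid (fun x c => (hbi x c).1) (fun c x => (hbi x c).2), ?_⟩
  have hA : IsSemisimpleRing A := by
    let i : A →ₐ[k] Ω ⊗[k] A := Algebra.TensorProduct.includeRight
    obtain ⟨g, hg⟩ := Module.Projective.exists_dual_ne_zero k (one_ne_zero (α := Ω))
    let f : Ω →ₗ[k] k := (g 1)⁻¹ • g
    have hf : f 1 = 1 := by simp [f, hg]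
    let Q : Ω ⊗[k] A →ₗ[k] A := (TensorProduct.lid k A).toLinearMap ∘ₗ f.rTensor A
    have hQ : ∀ (a : Ω) (x : A), Q (a ⊗ₜ x) = f a • x := fun a x => by simp [Q]
    refine semisimple_of_proj i.toRingHom Q.toAddMonoidHom (fun c => ?_) (fun x c => ?_) (fun c x => ?_)
    · show Q ((1 : Ω) ⊗ₜ c) = c
      rw [hQ, hf, one_smul]
    · show Q (x * ((1 : Ω) ⊗ₜ c)) = Q x * c
      induction x with
      | zero => simp
      | add p q hp hq => rw [add_mul, map_add, map_add, hp, hq, add_mul]
      | tmul a x => rw [Algebra.TensorProduct.tmul_mul_tmul, mul_one, hQ, hQ, smul_mul_assoc]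
    · show Q (((1 : Ω) ⊗ₜ c) * x) = c * Q x
      induction x with
      | zero => simp
      | add p q hp hq => rw [mul_add, map_add, map_add, hp, hq, mul_add]
      | tmul a x => rw [Algebra.TensorProduct.tmul_mul_tmul, one_mul, hQ, hQ, mul_smul_comm]
  exact semisimple_of_proj C.val.toRingHom P.toAddMonoidHom (fun c => Subtype.ext (hfix _ c.2))
    (fun x c => Subtype.ext (hrl x c c.2).1) (fun c x => Subtype.ext (hrl x c c.2).2)

/-- In a simple algebra with separable centre there is an étale subalgebra containing the centre,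
equal to it only in the commutative case. -/
theorem exists_etale_simple (B : Type v) [Ring B] [Algebra k B] [FiniteDimensional k B] [IsSimpleRing B]
    [Algebra.IsSeparable k (Subalgebra.center k B)] :
    ∃ T : Subalgebra k B, (∀ x ∈ T, ∀ y ∈ T, x * y = y * x) ∧ (∀ y ∈ T, IsSeparable k y) ∧
      Subalgebra.center k B ≤ T ∧ (T ≤ Subalgebra.center k B → ∀ a b : B, a * b = b * a) := by
  classical
  letI fC : Field (Subalgebra.center k B) := (IsSimpleRing.isField_center B : IsField (Subalgebra.center k B)).toField
  letI : Algebra (Subalgebra.center k B) B :=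
    RingHom.toAlgebra' (Subalgebra.center k B).val.toRingHom
      fun c x => (Subalgebra.mem_center_iff.1 c.2 x).symm
  haveI htow : @IsScalarTower k (Subalgebra.center k B) B _ Algebra.toSMul _ :=
    @IsScalarTower.of_algebraMap_eq k (Subalgebra.center k B) B _ _ _ _ _ _ fun r => rfl
  haveI : @Module.Finite (Subalgebra.center k B) B _ _ Algebra.toModule :=
    @Module.Finite.of_restrictScalars_finite k (Subalgebra.center k B) B _ _ _ _ Algebra.toModule _ htow _
  haveI : Algebra.IsCentral (Subalgebra.center k B) B := ⟨fun x hx => Algebra.mem_bot.2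
    ⟨⟨x, Subalgebra.mem_center_iff.2 (Subalgebra.mem_center_iff.1 hx)⟩, rfl⟩⟩
  obtain ⟨r, hr0, hr⟩ := CSALib.exists_sq (Subalgebra.center k B) B
  obtain ⟨x, hxs, hxd⟩ := AzumayaLib.Reg.exists_regular (k := (Subalgebra.center k B)) B hr
  let T₀ := Algebra.adjoin (Subalgebra.center k B) ({x} : Set B)
  letI : CommRing T₀ := Algebra.adjoinCommRingOfComm (Subalgebra.center k B) fun a ha b hb => by
    rw [Set.mem_singleton_iff] at ha hb; rw [ha, hb]
  haveI : Algebra.FormallyUnramified (Subalgebra.center k B) T₀ := unramified_adjoin x hxs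
  haveI : Algebra.FormallyUnramified k (Subalgebra.center k B) := Algebra.FormallyUnramified.of_isSeparable k (Subalgebra.center k B)
  haveI : IsScalarTower k (Subalgebra.center k B) T₀ := IsScalarTower.of_algebraMap_eq fun r => rfl
  haveI : Algebra.FormallyUnramified k T₀ := Algebra.FormallyUnramified.comp k (Subalgebra.center k B) T₀
  haveI : FiniteDimensional k T₀ := Module.Finite.trans (Subalgebra.center k B) T₀
  refine ⟨T₀.restrictScalars k, fun a ha b hb => congrArg Subtype.val (mul_comm (⟨a, ha⟩ : T₀) ⟨b, hb⟩),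
    fun a ha => ?_, fun a ha => T₀.algebraMap_mem ⟨a, ha⟩, fun hle a b => ?_⟩
  · have h := separable_of_unramified (k := k) (⟨a, ha⟩ : T₀)
    unfold IsSeparable at h ⊢
    rw [← minpoly.algHom_eq (T₀.val.restrictScalars k) Subtype.val_injective (⟨a, ha⟩ : T₀)] at h
    exact h
  · have hx : x ∈ (Subalgebra.center k B) := hle (Algebra.self_mem_adjoin_singleton (Subalgebra.center k B) x)
    have hdeg : (minpoly (Subalgebra.center k B) x).natDegree = 1 := by
      rw [minpoly.natDegree_eq_one_iff]
      exact ⟨⟨x, hx⟩, rfl⟩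
    have h1 : Module.finrank (Subalgebra.center k B) B = 1 := by rw [hr, ← hxd, hdeg, one_pow]
    have hbot := Subalgebra.bot_eq_top_iff_finrank_eq_one.2 h1
    have ha : a ∈ (⊥ : Subalgebra (Subalgebra.center k B) B) := hbot ▸ Algebra.mem_top
    obtain ⟨z, rfl⟩ := Algebra.mem_bot.1 ha
    exact Algebra.commutes z b

/-- The main theorem. -/
theorem centralizer_eq_of_maximal {A : Type v} [Ring A] [Algebra k A] [FiniteDimensional k A]
    (hss : IsSemisimpleRing (AlgebraicClosure k ⊗[k] A)) (L : Subalgebra k A)
    (hcomm : ∀ x ∈ L, ∀ y ∈ L, x * y = y * x) [Algebra.IsSeparable k L]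
    (hmax : ∀ L' : Subalgebra k A, (∀ x ∈ L', ∀ y ∈ L', x * y = y * x) → Algebra.IsSeparable k L' →
      L ≤ L' → L' = L) :
    Subalgebra.centralizer k (L : Set A) = L := by
  classical
  let C := Subalgebra.centralizer k (L : Set A)
  obtain ⟨h1, h2⟩ := semisimple_centralizer hss L hcomm
  haveI : IsSemisimpleRing (AlgebraicClosure k ⊗[k] C) := h1
  haveI : IsSemisimpleRing C := h2
  haveI hsepC : Algebra.IsSeparable k (Subalgebra.center k C) := isSeparable_center
  obtain ⟨n, D, d, _, _, _, hd, ⟨e⟩⟩ := IsSemisimpleRing.exists_algEquiv_pi_matrix_divisionRing_finite k C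
  let B : Fin n → Type v := fun i => Matrix (Fin (d i)) (Fin (d i)) (D i)
  let φ : ∀ i, C →ₐ[k] B i := fun i => (Pi.evalAlgHom k _ i).comp e.toAlgHom
  have hφs : ∀ i, Function.Surjective (φ i) := fun i b =>
    ⟨e.symm (Pi.single i b), by simp [φ, B]⟩
  have hφc : ∀ i (c : C), (∀ c' : C, c' * c = c * c') → φ i c ∈ Subalgebra.center k (B i) := fun i c hc => by
    rw [Subalgebra.mem_center_iff]
    intro b
    obtain ⟨c', rfl⟩ := hφs i b
    rw [← map_mul, ← map_mul, hc]
  have hsep : ∀ i, Algebra.IsSeparable k (Subalgebra.center k (B i)) := by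
    refine fun i => ⟨fun y => ?_⟩
    let x : C := e.symm (Pi.single i (y : B i))
    have hx : x ∈ Subalgebra.center k C := Subalgebra.mem_center_iff.2 fun a => e.injective (by
      rw [map_mul, map_mul, e.apply_symm_apply]
      funext j
      rcases eq_or_ne j i with rfl | hj
      · simp only [Pi.mul_apply, Pi.single_eq_same]
        exact Subalgebra.mem_center_iff.1 y.2 _
      · simp [Pi.single_eq_of_ne hj])
    have h := Algebra.IsSeparable.isSeparable k (⟨x, hx⟩ : Subalgebra.center k C)
    unfold IsSeparable at h ⊢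
    rw [← minpoly.algHom_eq (Subalgebra.center k (B i)).val Subtype.val_injective y]
    refine Polynomial.Separable.of_dvd h (minpoly.dvd k _ ?_)
    have hy : (φ i).comp (Subalgebra.center k C).val ⟨x, hx⟩ = (y : B i) := by simp [φ, x, B]
    rw [Subalgebra.coe_val, ← hy, aeval_algHom_apply, minpoly.aeval, map_zero]
  haveI := fun i => hd i
  choose T hTc hTs hTZ hTeq using fun i => exists_etale_simple (k := k) (B i)
  let L₀ : Subalgebra k C := ⨅ i, (T i).comap (φ i)
  have hL₀ : ∀ c, c ∈ L₀ ↔ ∀ i, φ i c ∈ T i := fun c => by simp [L₀, Algebra.mem_iInf]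
  let L' : Subalgebra k A := L₀.map C.val
  have hLC : ∀ l ∈ L, l ∈ C := fun l hl => (Subalgebra.mem_centralizer_iff k).2 fun m hm => hcomm m hm l hl
  have hcen : ∀ c : C, (∀ c' : C, c' * c = c * c') → (c : A) ∈ L' := fun c hc =>
    ⟨c, (hL₀ c).2 fun i => hTZ i (hφc i c hc), rfl⟩
  have hLc : ∀ l (hl : l ∈ L), ∀ c' : C, c' * (⟨l, hLC l hl⟩ : C) = (⟨l, hLC l hl⟩ : C) * c' := fun l hl c' =>
    Subtype.ext (((Subalgebra.mem_centralizer_iff k).1 c'.2 l hl).symm)
  have hle : L ≤ L' := fun l hl => hcen ⟨l, hLC l hl⟩ (hLc l hl)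
  have hinj : Function.Injective (AlgHom.pi φ) := fun a b h => e.injective (funext fun i => congrFun h i)
  have hcomm' : ∀ x ∈ L', ∀ y ∈ L', x * y = y * x := by
    rintro _ ⟨a, ha, rfl⟩ _ ⟨b, hb, rfl⟩
    show ((a * b : C) : A) = ((b * a : C) : A)
    congr 1
    refine hinj (funext fun i => ?_)
    show φ i (a * b) = φ i (b * a)
    rw [map_mul, map_mul]
    exact hTc i _ ((hL₀ a).1 ha i) _ ((hL₀ b).1 hb i)
  have hsep' : Algebra.IsSeparable k L' := by
    refine ⟨fun y => ?_⟩
    obtain ⟨c, hc, hcy⟩ := y.2
    have hs : IsSeparable k c := separable_of_components φ hinj c fun i => hTs i _ ((hL₀ c).1 hc i)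
    unfold IsSeparable at hs ⊢
    rw [← minpoly.algHom_eq L'.val Subtype.val_injective y]
    show (minpoly k (y : A)).Separable
    rw [← minpoly.algHom_eq C.val Subtype.val_injective c] at hs
    exact hcy ▸ hs
  have hL' := hmax L' hcomm' hsep' hle
  have hBc : ∀ i, ∀ a b : B i, a * b = b * a := by
    refine fun i => hTeq i fun t ht => ?_
    let c : C := e.symm (Pi.single i t)
    have hmem : (c : A) ∈ L := by
      rw [← hL']
      refine ⟨c, (hL₀ c).2 fun j => ?_, rfl⟩
      rcases eq_or_ne j i with rfl | hj
      · simpa [c, φ, B] using ht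
      · simp [c, φ, B, Pi.single_eq_of_ne hj]
    have h := hφc i c fun c' => hLc (c : A) hmem c'
    simpa [c, φ, B] using h
  refine le_antisymm (fun a ha => ?_) hLC
  rw [← hL']
  exact hcen ⟨a, ha⟩ fun c' => e.injective (funext fun i => by
    rw [map_mul, map_mul]; exact hBc i _ _)

end EtSubLib
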